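import Groth.Agent.GrpQ29.Cls
import Groth.Agent.CGrpSh29.AffDesc
import Groth.Agent.CGrpSh29.ExtensionFlat
import Groth.Agent.SchTorsor.Props

/-! Sections of the fpqc quotient by an equivalence relation with closed graph are closed subschemes. -/

set_option autoImplicit false
set_option backward.isDefEq.respectTransparency false
set_option backward.isDefEq.respectTransparency.types false

universe u

open CategoryTheory Limits Opposite AlgebraicGeometry MonoidalCategory CartesianMonoidalCategory

namespace Groth.Agent.GrpQ29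

variable {S : Scheme.{u}} {R U T : Over S} {s t : R ⟶ U}

local notation "Q" => QuotSh.quot Scheme.fpqcPrecoverage s t
local notation "J" => QuotSh.J Scheme.fpqcPrecoverage S

variable (x : (QuotSh.quot Scheme.fpqcPrecoverage s t).obj.obj (op T))

/-- The points of `U ⊗ T` inducing the given section. -/
noncomputable def pts : (Over S)ᵒᵖ ⥤ Type u where
  obj X := {v : X.unop ⟶ U ⊗ T //
    cls Scheme.fpqcPrecoverage s t (v ≫ fst U T) = (Q).obj.map (v ≫ snd U T).op x}
  map g := ↾fun v => ⟨g.unop ≫ v.1, by
    rw [Category.assoc, Category.assoc, ← cls_map, v.2, ← Functor.map_comp_apply]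
    rfl⟩
  map_id X := ConcreteCategory.hom_ext _ _ fun v => Subtype.ext (Category.id_comp v.1)
  map_comp f g := ConcreteCategory.hom_ext _ _ fun v => Subtype.ext (Category.assoc g.unop f.unop v.1)

theorem isSheaf_pts : Presieve.IsSheaf J (pts x) := by
  intro X Sv hSv y hy
  have hy' : Presieve.IsSheaf J (yoneda.obj (U ⊗ T)) :=
    GrothendieckTopology.Subcanonical.isSheaf_of_isRepresentable _
  let y' : Presieve.FamilyOfElements (yoneda.obj (U ⊗ T)) Sv.arrows := fun Y f hf => (y f hf).1
  have hc : y'.Compatible :=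
    fun Y₁ Y₂ Z g₁ g₂ f₁ f₂ h₁ h₂ w => congrArg Subtype.val (hy g₁ g₂ h₁ h₂ w)
  obtain ⟨v, hv, hvu⟩ := hy' Sv hSv y' hc
  have hQ := (isSheaf_iff_isSheaf_of_type _ _).1 (Q).property
  refine ⟨⟨v, (hQ Sv hSv).isSeparatedFor.ext fun Y f hf => ?_⟩, fun Y f hf => Subtype.ext (hv f hf),
    fun w hw => Subtype.ext (hvu w.1 fun Y f hf => congrArg Subtype.val (hw f hf))⟩
  have h1 : f ≫ v = (y f hf).1 := hv f hf
  have h2 := (y f hf).2
  rw [← h1] at h2
  rw [cls_map, ← Category.assoc, h2, ← Functor.map_comp_apply, ← op_comp, Category.assoc]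

variable [IsEquivalenceRelation s t]

/-- A section of the quotient sheaf is given by a closed subscheme of `U ⊗ T`. -/
theorem exists_closed_of_section (hc : IsClosedImmersion (lift t s).left) :
    ∃ (Z : Over S) (i : Z ⟶ U ⊗ T), IsClosedImmersion i.left ∧
      (∀ (X : Over S) (v : X ⟶ U ⊗ T), (∃ z : X ⟶ Z, z ≫ i = v) ↔
        cls Scheme.fpqcPrecoverage s t (v ≫ fst U T) = (Q).obj.map (v ≫ snd U T).op x) ∧
      ∀ (P : MorphismProperty Scheme.{u}) [P.IsStableUnderBaseChange],
        (∀ {A X Y W : Scheme.{u}} {a : A ⟶ X} {b : A ⟶ Y} {f : X ⟶ W} {g : Y ⟶ W},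
          CGrpSh29.fpqcCov g → IsPullback a b f g → P b → P f) →
        P s.left → P (i ≫ snd U T).left := by
  obtain ⟨T', p, a, hp, ha⟩ := exists_cover_cls x
  let q : U ⊗ T' ⟶ U ⊗ T := U ◁ p
  let Z' : Over S := pullback s a
  obtain ⟨z, hz1, hz2⟩ : ∃ z : Z' ⟶ U ⊗ T', z ≫ fst U T' = pullback.fst s a ≫ t ∧
      z ≫ snd U T' = pullback.snd s a :=
    ⟨lift (pullback.fst s a ≫ t) (pullback.snd s a), lift_fst _ _, lift_snd _ _⟩
  have hsq : IsPullback (snd U T') q p (snd U T) := IsPullback.of_isLimit (PullbackCone.IsLimit.mk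
    (by simp [q]) (fun c => lift (c.snd ≫ fst U T) c.fst)
    (fun c => lift_snd _ _)
    (fun c => by
      simp only [q, lift_whiskerLeft]
      apply CartesianMonoidalCategory.hom_ext
      · rw [lift_fst]
      · rw [lift_snd]; exact c.condition)
    (fun c m h1 h2 => by
      apply CartesianMonoidalCategory.hom_ext
      · rw [lift_fst, ← h2, Category.assoc, whiskerLeft_fst]
      · rw [lift_snd]; exact h1))
  have hq : CGrpSh29.fpqcCov q.left :=
    MorphismProperty.of_isPullback (P := CGrpSh29.fpqcCov) (hsq.map (Over.forget S)) hp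
  have hz : IsPullback z (pullback.fst s a) (U ◁ a) (lift t s) := IsPullback.of_isLimit (PullbackCone.IsLimit.mk
    (by
      apply CartesianMonoidalCategory.hom_ext
      · simp only [Category.assoc, whiskerLeft_fst, lift_fst, hz1]
      · simp only [Category.assoc, whiskerLeft_snd, lift_snd, reassoc_of% hz2, pullback.condition])
    (fun c => pullback.lift c.snd (c.fst ≫ snd U T') (by
      have := congrArg (· ≫ snd U U) c.condition
      simpa [eq_comm] using this))
    (fun c => by
      apply CartesianMonoidalCategory.hom_ext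
      · rw [Category.assoc, hz1, pullback.lift_fst_assoc]
        have := congrArg (· ≫ fst U U) c.condition
        simpa [eq_comm] using this
      · rw [Category.assoc, hz2, pullback.lift_snd])
    (fun c => pullback.lift_fst _ _ _)
    (fun c m h1 h2 => pullback.hom_ext (by rw [pullback.lift_fst]; exact h2) (by
      rw [pullback.lift_snd, ← h1, Category.assoc, hz2])))
  have hzc : IsClosedImmersion z.left :=
    MorphismProperty.of_isPullback (P := @IsClosedImmersion) (hz.map (Over.forget S)).flip hc
  have : Mono z := Over.mono_of_mono_left _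
  let el : (pts x).obj (op Z') := ⟨z ≫ q, by
    simp only [q, Category.assoc, whiskerLeft_fst, whiskerLeft_snd, hz1, reassoc_of% hz2]
    rw [op_comp, Functor.map_comp_apply, ← ha, cls_map, ← cls_comp_eq, pullback.condition]⟩
  obtain ⟨Z, i, e, hi, he⟩ := CGrpSh29.exists_representableBy (F := pts x) q z (el := el)
    (fun X φ => φ.1) (fun g φ => rfl) (isSheaf_pts x) hq rfl fun X w φ hφ => by
      have h1 : cls Scheme.fpqcPrecoverage s t (w ≫ fst U T') =
          cls Scheme.fpqcPrecoverage s t (w ≫ snd U T' ≫ a) := by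
        have h := φ.2
        rw [show φ.1 = w ≫ q from hφ] at h
        simp only [q, Category.assoc, whiskerLeft_fst, whiskerLeft_snd] at h
        rw [h, ← Category.assoc, op_comp, Functor.map_comp_apply, ← ha, cls_map, Category.assoc]
      obtain ⟨r, hr₁, hr₂⟩ := exists_of_cls_eq h1
      let l : X ⟶ Z' := pullback.lift r (w ≫ snd U T') (by rw [hr₂, Category.assoc])
      have hl : l ≫ z = w := by
        apply CartesianMonoidalCategory.hom_ext
        · rw [Category.assoc, hz1, pullback.lift_fst_assoc, hr₁]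
        · rw [Category.assoc, hz2, pullback.lift_snd]
      refine ⟨l, ⟨hl, Subtype.ext ?_⟩, fun w' hw' => by rw [← cancel_mono z, hl, hw'.1]⟩
      show l ≫ z ≫ q = φ.1
      rw [← Category.assoc, hl]
      exact hφ.symm
  let r' : Z' ⟶ Z := e.homEquiv.symm el
  have hinj : ∀ {X : Over S} (w₁ w₂ : X ⟶ Z), w₁ ≫ i = w₂ ≫ i → w₁ = w₂ := fun w₁ w₂ h =>
    e.homEquiv.injective (Subtype.ext ((he _ w₁).trans (h.trans (he _ w₂).symm)))
  have hr : r' ≫ i = z ≫ q := by
    rw [← he, Equiv.apply_symm_apply]
  have hlift : ∀ c : PullbackCone q i, ∃ l : c.pt ⟶ Z', l ≫ z = c.fst := fun c => by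
    have h := (e.homEquiv c.snd).2
    rw [he, ← c.condition] at h
    simp only [q, Category.assoc, whiskerLeft_fst, whiskerLeft_snd] at h
    have h1 : cls Scheme.fpqcPrecoverage s t (c.fst ≫ fst U T') =
        cls Scheme.fpqcPrecoverage s t (c.fst ≫ snd U T' ≫ a) := by
      rw [h, ← Category.assoc, op_comp, Functor.map_comp_apply, ← ha, cls_map, Category.assoc]
    obtain ⟨r, hr₁, hr₂⟩ := exists_of_cls_eq h1
    refine ⟨pullback.lift r (c.fst ≫ snd U T') (by rw [hr₂, Category.assoc]), ?_⟩
    apply CartesianMonoidalCategory.hom_ext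
    · rw [Category.assoc, hz1, pullback.lift_fst_assoc, hr₁]
    · rw [Category.assoc, hz2, pullback.lift_snd]
  choose l hl using hlift
  have hpb : IsPullback z r' q i := IsPullback.of_isLimit' ⟨hr.symm⟩ (PullbackCone.IsLimit.mk _ l hl
    (fun c => hinj _ _ (by rw [Category.assoc, hr, ← Category.assoc, hl, c.condition]))
    (fun c m h1 _ => by rw [← cancel_mono z, h1, hl]))
  have hpb' : IsPullback r'.left z.left i.left q.left := (hpb.map (Over.forget S)).flip
  refine ⟨Z, i, ?_, fun X v => ⟨?_, fun h => ?_⟩, fun P _ hP hs => ?_⟩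
  · have : UniversallyClosed i.left :=
      CGrpSh29.property_descends (P := @UniversallyClosed) hq hpb' inferInstance
    have : LocallyOfFiniteType i.left :=
      CGrpSh29.property_descends (P := @LocallyOfFiniteType) hq hpb' inferInstance
    have : IsProper i.left := {}
    have : IsFinite i.left := IsFinite.iff_isProper_and_isAffineHom.mpr ⟨inferInstance, hi⟩
    have : Mono i := ⟨fun w₁ w₂ h => hinj w₁ w₂ h⟩
    have : Mono i.left := inferInstanceAs (Mono ((Over.forget S).map i))
    exact (IsClosedImmersion.iff_isFinite_and_mono _).mpr ⟨inferInstance, inferInstance⟩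
  · rintro ⟨w, rfl⟩
    rw [← he]
    exact (e.homEquiv w).2
  · exact ⟨e.homEquiv.symm ⟨v, h⟩, by rw [← he, Equiv.apply_symm_apply]⟩
  · have h1 : IsPullback r' (z ≫ snd U T') (i ≫ snd U T) p := hpb.flip.paste_vert hsq.flip
    have h2 : P (pullback.snd s a).left :=
      MorphismProperty.of_isPullback ((IsPullback.of_hasPullback s a).map (Over.forget S)) hs
    exact hP hp (h1.map (Over.forget S)) (show P (z ≫ snd U T').left by
      rw [hz2]; exact h2)

end Groth.Agent.GrpQ29
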