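import Groth.Agent.AlgStLib.QuotShEff
import Groth.Agent.CGrpSh29.FpqcCov

/-! Classes of points in the quotient sheaf of an equivalence relation. -/

set_option autoImplicit false
set_option backward.isDefEq.respectTransparency false
set_option backward.isDefEq.respectTransparency.types false

universe u

open CategoryTheory Limits Opposite AlgebraicGeometry

namespace Groth.Agent.GrpQ29

variable {K : Precoverage Scheme.{u}} {S : Scheme.{u}}

theorem repMap_comp {A B C : Over S} (f : A ⟶ B) (g : B ⟶ C) :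
    QuotSh.repMap K (f ≫ g) = QuotSh.repMap K f ≫ QuotSh.repMap K g := by
  simp only [QuotSh.repMap, Functor.map_comp, Functor.whiskerRight_comp]

/-- Maps out of the sheaf of a scheme are sections. -/
noncomputable def secEquiv (G : QuotSh.Sh K S) (V : Over S) : (QuotSh.rep K V ⟶ G) ≃ G.obj.obj (op V) :=
  ((sheafificationAdjunction (QuotSh.J K S) (Type (u + 1))).homEquiv _ _).trans uliftYonedaEquiv.{u + 1}

theorem secEquiv_repMap {G : QuotSh.Sh K S} {V W : Over S} (g : V ⟶ W) (φ : QuotSh.rep K W ⟶ G) :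
    secEquiv G V (QuotSh.repMap K g ≫ φ) = G.obj.map g.op (secEquiv G W φ) := by
  refine (congrArg uliftYonedaEquiv.{u + 1}
    ((sheafificationAdjunction (QuotSh.J K S) (Type (u + 1))).homEquiv_naturality_left _ φ)).trans ?_
  exact (uliftYonedaEquiv_naturality.{u + 1} _ g.op).symm

theorem secEquiv_comp {G G' : QuotSh.Sh K S} {V : Over S} (φ : QuotSh.rep K V ⟶ G) (θ : G ⟶ G') :
    secEquiv G' V (φ ≫ θ) = θ.hom.app (op V) (secEquiv G V φ) := by
  refine (congrArg uliftYonedaEquiv.{u + 1}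
    ((sheafificationAdjunction (QuotSh.J K S) (Type (u + 1))).homEquiv_naturality_right φ θ)).trans ?_
  exact uliftYonedaEquiv_comp.{u + 1} _ _

theorem repMap_injective [(QuotSh.J K S).Subcanonical] {A B : Over S} {f g : A ⟶ B}
    (h : QuotSh.repMap K f = QuotSh.repMap K g) : f = g := by
  apply (QuotSh.J K S).uliftYoneda.{u + 1}.map_injective
  rw [← cancel_epi (QuotSh.repIsoUliftYoneda K A).hom, AlgStLib.QuotShEff.repMap_iso,
    AlgStLib.QuotShEff.repMap_iso, h]

theorem exists_repMap_eq [(QuotSh.J K S).Subcanonical] {A B : Over S} (l : QuotSh.rep K A ⟶ QuotSh.rep K B) :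
    ∃ f : A ⟶ B, QuotSh.repMap K f = l := by
  obtain ⟨f, hf⟩ := (QuotSh.J K S).uliftYoneda.{u + 1}.map_surjective
    ((QuotSh.repIsoUliftYoneda K A).inv ≫ l ≫ (QuotSh.repIsoUliftYoneda K B).hom)
  refine ⟨f, ?_⟩
  rw [← cancel_mono (QuotSh.repIsoUliftYoneda K B).hom, ← AlgStLib.QuotShEff.repMap_iso, hf, Iso.hom_inv_id_assoc]

variable {R U : Over S}

variable (K) in
/-- The class of a point in the quotient sheaf. -/
noncomputable def cls (s t : R ⟶ U) {V : Over S} (a : V ⟶ U) : (QuotSh.quot K s t).obj.obj (op V) :=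
  secEquiv _ V (QuotSh.repMap K a ≫ QuotSh.quotπ K s t)

variable {s t : R ⟶ U}

theorem cls_map {V W : Over S} (g : V ⟶ W) (a : W ⟶ U) :
    (QuotSh.quot K s t).obj.map g.op (cls K s t a) = cls K s t (g ≫ a) := by
  rw [cls, cls, ← secEquiv_repMap, ← Category.assoc, ← repMap_comp]

theorem cls_comp_eq {V : Over S} (r : V ⟶ R) : cls K s t (r ≫ s) = cls K s t (r ≫ t) := by
  rw [cls, cls, repMap_comp, repMap_comp, Category.assoc, Category.assoc, QuotSh.quot_condition]

/-- Two points with the same class are related. -/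
theorem exists_of_cls_eq [(QuotSh.J K S).Subcanonical] [IsEquivalenceRelation s t] {V : Over S} {a b : V ⟶ U}
    (h : cls K s t a = cls K s t b) : ∃ r : V ⟶ R, r ≫ t = a ∧ r ≫ s = b := by
  have hk := Groth.Agent.AlgSpPts.isPullback_quotπ K
    (AlgStLib.QuotShEff.isEqvRel_of_isEquivalenceRelation (s := s) (t := t))
  obtain ⟨r, hr⟩ := exists_repMap_eq (hk.lift (QuotSh.repMap K a) (QuotSh.repMap K b) ((secEquiv _ V).injective h))
  exact ⟨r, repMap_injective (by rw [repMap_comp, hr, hk.lift_fst]),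
    repMap_injective (by rw [repMap_comp, hr, hk.lift_snd])⟩

/-- Sections of the quotient sheaf are classes, locally. -/
theorem exists_covering_cls [(QuotSh.J K S).Subcanonical] {V : Over S} (x : (QuotSh.quot K s t).obj.obj (op V)) :
    ∃ Sv ∈ QuotSh.J K S V, ∀ ⦃V' : Over S⦄ (g : V' ⟶ V), Sv g →
      ∃ a : V' ⟶ U, cls K s t a = (QuotSh.quot K s t).obj.map g.op x := by
  have : Sheaf.IsLocallySurjective (QuotSh.quotπ K s t) :=
    (Sheaf.isLocallySurjective_iff_epi _).2 (inferInstanceAs (Epi (coequalizer.π _ _)))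
  refine ⟨_, Presheaf.imageSieve_mem (QuotSh.J K S) (QuotSh.quotπ K s t).hom x, fun V' g ⟨l, hl⟩ => ?_⟩
  obtain ⟨a, ha⟩ := exists_repMap_eq ((secEquiv _ V').symm l)
  refine ⟨a, ?_⟩
  rw [cls, secEquiv_comp, ha, Equiv.apply_symm_apply]
  exact hl

/-- Sums of open immersions cover. -/
theorem ofArrows_mem {ι : Type u} (W : ι → Over S) {W' : Over S} (j : ∀ i, W i ⟶ W')
    [∀ i, IsOpenImmersion (j i).left] (hc : ∀ x, ∃ i, x ∈ Set.range (j i).left) :
    Sieve.generate (Presieve.ofArrows W j) ∈ QuotSh.J Scheme.fpqcPrecoverage S W' := by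
  rw [GrothendieckTopology.mem_over_iff]
  refine GrothendieckTopology.superset_covering _ ?_
    (Precoverage.generate_mem_toGrothendieck
      (Scheme.zariskiPrecoverage_le_fpqcPrecoverage W'.left
        (show Presieve.ofArrows (fun i => (W i).left) (fun i => (j i).left) ∈ Scheme.zariskiPrecoverage W'.left from
          (Scheme.ofArrows_mem_precoverage_iff _).2 ⟨fun x => hc x, fun i => inferInstance⟩)))
  rw [Sieve.generate_le_iff]
  rintro _ _ ⟨i⟩
  rw [Sieve.overEquiv_iff]
  exact ⟨W i, Over.homMk (𝟙 _) (by simp), j i, Presieve.ofArrows.mk i, Over.OverMorphism.ext (Category.id_comp _)⟩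

/-- A section of the fpqc quotient sheaf is a class after a single covering. -/
theorem exists_cover_cls {T : Over S} (x : (QuotSh.quot Scheme.fpqcPrecoverage s t).obj.obj (op T)) :
    ∃ (T' : Over S) (p : T' ⟶ T) (a : T' ⟶ U), CGrpSh29.fpqcCov p.left ∧
      cls Scheme.fpqcPrecoverage s t a = (QuotSh.quot Scheme.fpqcPrecoverage s t).obj.map p.op x := by
  obtain ⟨Sv, hSv, hlift⟩ := exists_covering_cls x
  rw [GrothendieckTopology.mem_over_iff] at hSv
  obtain ⟨ι, W, g, hg, hcov⟩ := CGrpSh29.exists_sigma_cover hSv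
  let V : ι → Over S := fun i => Over.mk (g i ≫ T.hom)
  let φ : ∀ i, V i ⟶ T := fun i => Over.homMk (g i) rfl
  choose a ha using fun i => hlift (φ i) ((Sieve.overEquiv_iff Sv (g i)).1 (hg i))
  let T' : Over S := Over.mk (Sigma.desc g ≫ T.hom)
  let p : T' ⟶ T := Over.homMk (Sigma.desc g) rfl
  let j : ∀ i, V i ⟶ T' := fun i => Over.homMk (Sigma.ι W i) (by
    show Sigma.ι W i ≫ Sigma.desc g ≫ T.hom = _
    rw [Sigma.ι_desc_assoc]
    rfl)
  have : ∀ i, IsOpenImmersion (j i).left := fun i => inferInstanceAs (IsOpenImmersion (Sigma.ι W i))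
  let a' : T' ⟶ U := Over.homMk (Sigma.desc fun i => (a i).left) (Sigma.hom_ext _ _ fun i => by
    show Sigma.ι W i ≫ (Sigma.desc fun i => (a i).left) ≫ U.hom = Sigma.ι W i ≫ Sigma.desc g ≫ T.hom
    rw [Sigma.ι_desc_assoc, Sigma.ι_desc_assoc]
    exact Over.w (a i))
  refine ⟨T', p, a', hcov, ?_⟩
  have hQ := (isSheaf_iff_isSheaf_of_type _ _).1 (QuotSh.quot Scheme.fpqcPrecoverage s t).property
  refine ((Presieve.isSheafFor_iff_generate _).2 (hQ _ (ofArrows_mem V j fun y => ?_))).isSeparatedFor.ext ?_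
  · obtain ⟨i, z, hz⟩ := (sigmaOpenCover W).exists_eq y
    exact ⟨i, z, hz⟩
  · rintro _ _ ⟨i⟩
    have h1 : j i ≫ a' = a i := Over.OverMorphism.ext (Sigma.ι_desc _ i)
    have h2 : j i ≫ p = φ i := Over.OverMorphism.ext (Sigma.ι_desc _ i)
    rw [cls_map, h1, ha, ← Functor.map_comp_apply, ← op_comp, h2]

end Groth.Agent.GrpQ29
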