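import Groth.Agent.CGrpSh29.ExtensionFlat
import Groth.Agent.GrpQ29.Cls

/-! Homomorphisms which are epimorphisms of fppf sheaves with flat kernel. -/

set_option autoImplicit false
set_option backward.isDefEq.respectTransparency false
set_option backward.isDefEq.respectTransparency.types false

universe u

open CategoryTheory Limits MonoidalCategory CartesianMonoidalCategory MonObj Opposite AlgebraicGeometry

namespace Groth.Agent.GrpQ29

open CGrpSh29 (fpqcCov flat_of_fpqcCov surjective_of_fpqcCov)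

variable {S : Scheme.{u}} {F H G' : Over S} [GrpObj H] [GrpObj G'] {f : F ⟶ G'} {p : G' ⟶ H} [IsMonHom p]

/-- A homomorphism which is locally surjective with flat kernel is faithfully flat. -/
theorem flat_surjective_of_kernel' [Flat F.hom] (hker : AlgGrp.IsKernel f p) {W' : Over S} (q : W' ⟶ H)
    (hq : fpqcCov q.left) (x₀ : W' ⟶ G') (hx₀ : x₀ ≫ p = q) :
    Flat p.left ∧ Surjective p.left := by
  let r : W' ⊗ F ⟶ G' := (fst W' F ≫ x₀) * (snd W' F ≫ f)
  have hfp : f ≫ p = 1 := by
    rw [hker.w, MonObj.one_eq_one, MonObj.comp_one]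
  have w : r ≫ p = fst W' F ≫ q := by
    rw [MonObj.mul_comp, Category.assoc, Category.assoc, hx₀, hfp, MonObj.comp_one, _root_.mul_one]
  have hsurjF : Surjective F.hom := ⟨fun x => ⟨(hker.lift η[G'] (toUnit _) (by rw [IsMonHom.one_hom, toUnit_unique (toUnit (𝟙_ (Over S))) (𝟙 _), Category.id_comp])).left x, by
    rw [← Scheme.Hom.comp_apply, Over.w]
    rfl⟩⟩
  have hex : ∀ c : PullbackCone p q, ∃! y : c.pt ⟶ F, (c.snd ≫ x₀) * (y ≫ f) = c.fst := fun c => by
    have h1 : ((c.snd ≫ x₀)⁻¹ * c.fst) ≫ p = toUnit _ ≫ η[H] := by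
      rw [MonObj.mul_comp, GrpObj.inv_comp, Category.assoc, hx₀, c.condition, inv_mul_cancel]
      rfl
    refine ⟨hker.lift _ (toUnit _) h1, ?_, fun y hy => hker.hom_ext ?_ (toUnit_unique _ _)⟩
    · show (c.snd ≫ x₀) * (_ ≫ f) = c.fst
      rw [hker.lift_fst, mul_inv_cancel_left]
    · rw [hker.lift_fst, ← hy, inv_mul_cancel_left]
  choose y hy hyu using hex
  have hsq : IsPullback r (fst W' F) p q := IsPullback.of_isLimit (PullbackCone.IsLimit.mk w
    (fun c => lift c.snd (y c))
    (fun c => by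
      show lift c.snd (y c) ≫ r = c.fst
      rw [MonObj.comp_mul, lift_fst_assoc, lift_snd_assoc]
      exact hy c)
    (fun c => lift_fst _ _)
    fun c m hm1 hm2 => by
      refine CartesianMonoidalCategory.hom_ext _ _ (hm2.trans (lift_fst _ _).symm) ?_
      rw [lift_snd]
      refine hyu c _ ?_
      show _ = _
      rw [← hm1, MonObj.comp_mul, reassoc_of% hm2]
      simp only [Category.assoc])
  have hsq' : IsPullback r.left (fst W' F).left p.left q.left := (Over.forget S).map_isPullback hsq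
  have hfl : Flat (fst W' F).left := MorphismProperty.pullback_fst _ _ ‹Flat F.hom›
  have hsu : Surjective (fst W' F).left := MorphismProperty.pullback_fst _ _ hsurjF
  have : Flat q.left := flat_of_fpqcCov hq
  have : Surjective q.left := surjective_of_fpqcCov hq
  have : Flat r.left := MorphismProperty.of_isPullback hsq'.flip ‹_›
  have : Surjective r.left := MorphismProperty.of_isPullback hsq'.flip ‹_›
  have hcomp : r.left ≫ p.left = (fst W' F).left ≫ q.left := hsq'.w
  have : Flat (r.left ≫ p.left) := by rw [hcomp]; infer_instance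
  have : Surjective (r.left ≫ p.left) := by rw [hcomp]; infer_instance
  exact ⟨GrpSchLib.RankOne.flat_of_comp r.left p.left, Surjective.of_comp r.left p.left⟩

omit [GrpObj H] [GrpObj G'] in
/-- Epimorphisms of fppf sheaves between representable sheaves lift after an fpqc covering. -/
theorem exists_cover_of_epi {G' H : Over S} (p : G' ⟶ H) [Epi (QuotSh.repMap Scheme.fppfPrecoverage p)] :
    ∃ (W : Over S) (q : W ⟶ H) (x₀ : W ⟶ G'), fpqcCov q.left ∧ x₀ ≫ p = q := by
  have hls : Sheaf.IsLocallySurjective (QuotSh.repMap Scheme.fppfPrecoverage p) :=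
    (Sheaf.isLocallySurjective_iff_epi _).2 inferInstance
  have hls' := (Presheaf.isLocallySurjective_presheafToSheaf_map_iff _ _).1 hls
  have hmem := Presheaf.imageSieve_mem (QuotSh.J Scheme.fppfPrecoverage S)
    (Functor.whiskerRight (yoneda.map p) uliftFunctor.{u + 1, u})
    (ULift.up (𝟙 H) : (yoneda.obj H ⋙ uliftFunctor.{u + 1, u}).obj (op H))
  rw [GrothendieckTopology.mem_over_iff] at hmem
  obtain ⟨J', W, g, hg, hcov⟩ := CGrpSh29.exists_sigma_cover (Scheme.fppfTopology_le_fpqcTopology _ hmem)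
  let V : J' → Over S := fun i => Over.mk (g i ≫ H.hom)
  let φ : ∀ i, V i ⟶ H := fun i => Over.homMk (g i) rfl
  have hl : ∀ i, ∃ a : V i ⟶ G', a ≫ p = φ i := fun i => by
    obtain ⟨⟨a⟩, ha⟩ := (Sieve.overEquiv_iff _ (g i)).1 (hg i)
    exact ⟨a, (congrArg ULift.down ha).trans (Category.comp_id (φ i))⟩
  choose a ha using hl
  let W' : Over S := Over.mk (Sigma.desc g ≫ H.hom)
  let x₀ : W' ⟶ G' := Over.homMk (Sigma.desc fun i => (a i).left) (Sigma.hom_ext _ _ fun i => by
    show Limits.Sigma.ι W i ≫ (Sigma.desc fun i => (a i).left) ≫ G'.hom = Limits.Sigma.ι W i ≫ Sigma.desc g ≫ H.hom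
    rw [Sigma.ι_desc_assoc, Sigma.ι_desc_assoc]
    exact Over.w (a i))
  refine ⟨W', Over.homMk (Sigma.desc g) rfl, x₀, hcov, Over.OverMorphism.ext (Sigma.hom_ext _ _ fun i => ?_)⟩
  show Limits.Sigma.ι W i ≫ (Sigma.desc fun i => (a i).left) ≫ p.left = Limits.Sigma.ι W i ≫ Sigma.desc g
  rw [Sigma.ι_desc_assoc, Sigma.ι_desc, ← Over.comp_left, ha]
  rfl

end Groth.Agent.GrpQ29
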