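import Groth.Agent.GrpQ29.ClosedGraph

/-! Sections of the fpqc quotient by an equivalence relation with open graph are open subschemes. -/

set_option autoImplicit false
set_option backward.isDefEq.respectTransparency false
set_option backward.isDefEq.respectTransparency.types false

universe u

open CategoryTheory Limits Opposite AlgebraicGeometry MonoidalCategory CartesianMonoidalCategory TopologicalSpace

namespace Groth.Agent.GrpQ29

/-- Single fpqc coverings are submersive. -/
theorem isOpen_of_preimage {X Y : Scheme.{u}} {q : X ⟶ Y} (hq : CGrpSh29.fpqcCov q) {A : Set Y}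
    (hA : IsOpen (q ⁻¹' A)) : IsOpen A := by
  rw [isOpen_iff_forall_mem_open]
  intro y hy
  obtain ⟨V, hV, hyV, -⟩ := exists_isAffineOpen_mem_and_subset (x := y) (U := (⊤ : Y.Opens)) trivial
  obtain ⟨K, hK, hKV⟩ := CGrpSh29.exists_compact_image hq hV.isCompact
  have hr : Set.range (K.ι ≫ q) ⊆ Set.range V.ι := by
    rintro _ ⟨x, rfl⟩
    rw [Scheme.Opens.range_ι, ← hKV]
    exact ⟨x.1, x.2, rfl⟩
  let k := IsOpenImmersion.lift V.ι (K.ι ≫ q) hr
  have hk : k ≫ V.ι = K.ι ≫ q := IsOpenImmersion.lift_fac _ _ _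
  have : IsAffine V.toScheme := hV
  have : CompactSpace K.toScheme := isCompact_iff_compactSpace.mp hK
  have : QuasiCompact k := by
    have : QuasiCompact (k ≫ terminal.from _) := by
      rw [terminal.comp_from]
      exact (compactSpace_iff_quasiCompact _).mp inferInstance
    exact QuasiCompact.of_comp k (terminal.from V.toScheme)
  have : Flat q := CGrpSh29.flat_of_fpqcCov hq
  have : Flat k := by
    have hsqk : IsPullback k (𝟙 _) V.ι (K.ι ≫ q) := IsPullback.of_isLimit (PullbackCone.IsLimit.mk
      (by rw [Category.id_comp]; exact hk) (fun c => c.snd) (fun c => by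
        rw [← cancel_mono V.ι, Category.assoc]
        exact (congrArg (c.snd ≫ ·) hk).trans c.condition.symm)
      (fun c => Category.comp_id _) fun c m _ hm => by simpa using hm)
    exact MorphismProperty.of_isPullback hsqk.flip (inferInstance : Flat (K.ι ≫ q))
  have : Surjective k := ⟨fun v => by
    obtain ⟨x, hx, hxv⟩ := hKV.ge v.2
    refine ⟨⟨x, hx⟩, V.ι.isOpenEmbedding.injective ?_⟩
    rw [← Scheme.Hom.comp_apply, hk]
    exact hxv⟩
  have h1 : IsOpen (V.ι ⁻¹' A) := by
    rw [← (Flat.isQuotientMap_of_surjective k).isOpen_preimage]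
    have h2 : k ⁻¹' (V.ι ⁻¹' A) = K.ι ⁻¹' (q ⁻¹' A) := by
      ext v
      show V.ι (k v) ∈ A ↔ q (K.ι v) ∈ A
      rw [← Scheme.Hom.comp_apply, hk, Scheme.Hom.comp_apply]
    rw [h2]
    exact hA.preimage K.ι.continuous
  refine ⟨V.ι '' (V.ι ⁻¹' A), Set.image_preimage_subset _ _, V.ι.isOpenEmbedding.isOpenMap _ h1, ⟨⟨y, hyV⟩, hy, rfl⟩⟩

variable {S : Scheme.{u}} {R U T : Over S} {s t : R ⟶ U}

local notation "Q" => QuotSh.quot Scheme.fpqcPrecoverage s t

variable (x : (QuotSh.quot Scheme.fpqcPrecoverage s t).obj.obj (op T)) [IsEquivalenceRelation s t]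

/-- A section of the quotient sheaf is given by an open subscheme of `U ⊗ T`. -/
theorem exists_open_of_section (hc : IsOpenImmersion (lift t s).left) :
    ∃ (Z : Over S) (i : Z ⟶ U ⊗ T), IsOpenImmersion i.left ∧
      (∀ (X : Over S) (v : X ⟶ U ⊗ T), (∃ z : X ⟶ Z, z ≫ i = v) ↔
        cls Scheme.fpqcPrecoverage s t (v ≫ fst U T) = (Q).obj.map (v ≫ snd U T).op x) ∧
      ∀ (P : MorphismProperty Scheme.{u}) [P.IsStableUnderBaseChange],
        (∀ {A X Y W : Scheme.{u}} {a : A ⟶ X} {b : A ⟶ Y} {f : X ⟶ W} {g : Y ⟶ W},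
          CGrpSh29.fpqcCov g → IsPullback a b f g → P b → P f) →
        P s.left → P (i ≫ snd U T).left := by
  obtain ⟨T', p, a, hp, ha⟩ := exists_cover_cls x
  let q : U ⊗ T' ⟶ U ⊗ T := U ◁ p
  let Z' : Over S := pullback s a
  obtain ⟨z, hz1, hz2⟩ : ∃ z : Z' ⟶ U ⊗ T', z ≫ fst U T' = pullback.fst s a ≫ t ∧
      z ≫ snd U T' = pullback.snd s a :=
    ⟨lift (pullback.fst s a ≫ t) (pullback.snd s a), lift_fst _ _, lift_snd _ _⟩
  have hsq : IsPullback (snd U T') q p (snd U T) := IsPullback.of_isLimit (PullbackCone.IsLimit.mk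
    (by simp [q]) (fun c => lift (c.snd ≫ fst U T) c.fst)
    (fun c => lift_snd _ _)
    (fun c => by
      simp only [q, lift_whiskerLeft]
      apply CartesianMonoidalCategory.hom_ext
      · rw [lift_fst]
      · rw [lift_snd]; exact c.condition)
    (fun c m h1 h2 => by
      apply CartesianMonoidalCategory.hom_ext
      · rw [lift_fst, ← h2, Category.assoc, whiskerLeft_fst]
      · rw [lift_snd]; exact h1))
  have hq : CGrpSh29.fpqcCov q.left :=
    MorphismProperty.of_isPullback (P := CGrpSh29.fpqcCov) (hsq.map (Over.forget S)) hp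
  have hz : IsPullback z (pullback.fst s a) (U ◁ a) (lift t s) := IsPullback.of_isLimit (PullbackCone.IsLimit.mk
    (by
      apply CartesianMonoidalCategory.hom_ext
      · simp only [Category.assoc, whiskerLeft_fst, lift_fst, hz1]
      · simp only [Category.assoc, whiskerLeft_snd, lift_snd, reassoc_of% hz2, pullback.condition])
    (fun c => pullback.lift c.snd (c.fst ≫ snd U T') (by
      have := congrArg (· ≫ snd U U) c.condition
      simpa [eq_comm] using this))
    (fun c => by
      apply CartesianMonoidalCategory.hom_ext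
      · rw [Category.assoc, hz1, pullback.lift_fst_assoc]
        have := congrArg (· ≫ fst U U) c.condition
        simpa [eq_comm] using this
      · rw [Category.assoc, hz2, pullback.lift_snd])
    (fun c => pullback.lift_fst _ _ _)
    (fun c m h1 h2 => pullback.hom_ext (by rw [pullback.lift_fst]; exact h2) (by
      rw [pullback.lift_snd, ← h1, Category.assoc, hz2])))
  have hzo : IsOpenImmersion z.left :=
    MorphismProperty.of_isPullback (P := @IsOpenImmersion) (hz.map (Over.forget S)).flip hc
  have : Mono z := Over.mono_of_mono_left _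
  let C : ∀ X : Over S, (X ⟶ U ⊗ T) → Prop := fun X v =>
    cls Scheme.fpqcPrecoverage s t (v ≫ fst U T) = (Q).obj.map (v ≫ snd U T).op x
  have hC : ∀ (X : Over S) (w : X ⟶ U ⊗ T'), C X (w ≫ q) ↔ ∃ l : X ⟶ Z', l ≫ z = w := fun X w => by
    simp only [C, q, Category.assoc, whiskerLeft_fst, whiskerLeft_snd]
    rw [← Category.assoc w (snd U T') p, op_comp, Functor.map_comp_apply, ← ha, cls_map, Category.assoc]
    refine ⟨fun h => ?_, ?_⟩
    · obtain ⟨r, hr₁, hr₂⟩ := exists_of_cls_eq h
      refine ⟨pullback.lift r (w ≫ snd U T') (by rw [hr₂, Category.assoc]), ?_⟩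
      apply CartesianMonoidalCategory.hom_ext
      · rw [Category.assoc, hz1, pullback.lift_fst_assoc, hr₁]
      · rw [Category.assoc, hz2, pullback.lift_snd]
    · rintro ⟨l, rfl⟩
      rw [Category.assoc, hz1, Category.assoc, reassoc_of% hz2, ← Category.assoc, ← cls_comp_eq, Category.assoc,
        pullback.condition]
  let B : Set (U ⊗ T).left := q.left '' Set.range z.left
  have hsat : q.left ⁻¹' B = Set.range z.left := by
    refine subset_antisymm ?_ (Set.subset_preimage_image _ _)
    rintro y ⟨y', hy', hyy'⟩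
    let E : Over S := pullback q q
    have hE : IsPullback (pullback.fst q q).left (pullback.snd q q).left q.left q.left :=
      (IsPullback.of_hasPullback q q).map (Over.forget S)
    obtain ⟨c, hc1, hc2⟩ := Scheme.Pullback.exists_preimage_pullback (f := q.left) (g := q.left) y y' hyy'.symm
    let c' : E.left := hE.isoPullback.inv c
    have hc1' : (pullback.fst q q).left c' = y := by
      rw [← hc1, ← hE.isoPullback_inv_fst, Scheme.Hom.comp_apply]
    have hc2' : (pullback.snd q q).left c' = y' := by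
      rw [← hc2, ← hE.isoPullback_inv_snd, Scheme.Hom.comp_apply]
    let O : E.left.Opens := (pullback.snd q q).left ⁻¹ᵁ z.left.opensRange
    let W : Over S := Over.mk (O.ι ≫ E.hom)
    let o : W ⟶ E := Over.homMk O.ι rfl
    have hrg : Set.range (o ≫ pullback.snd q q).left ⊆ Set.range z.left := by
      rintro _ ⟨v, rfl⟩
      exact (show O.ι v ∈ O from v.2)
    have hl : IsOpenImmersion.lift z.left (o ≫ pullback.snd q q).left hrg ≫ z.left =
        (o ≫ pullback.snd q q).left := IsOpenImmersion.lift_fac _ _ _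
    have h2 : C W ((o ≫ pullback.snd q q) ≫ q) := (hC _ _).2
      ⟨Over.homMk (IsOpenImmersion.lift z.left (o ≫ pullback.snd q q).left hrg) (by
        rw [← Over.w z, ← Category.assoc, hl]; exact Over.w (o ≫ pullback.snd q q)),
        Over.OverMorphism.ext hl⟩
    rw [Category.assoc, ← pullback.condition, ← Category.assoc] at h2
    obtain ⟨l, hl'⟩ := (hC _ _).1 h2
    have hc'O : c' ∈ O := show (pullback.snd q q).left c' ∈ z.left.opensRange by rw [hc2']; exact hy'
    refine ⟨l.left ⟨c', hc'O⟩, ?_⟩
    rw [← Scheme.Hom.comp_apply, ← Over.comp_left, hl', Over.comp_left, Scheme.Hom.comp_apply]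
    exact hc1'
  let V : (U ⊗ T).left.Opens :=
    ⟨B, isOpen_of_preimage hq (by rw [hsat]; exact z.left.isOpenEmbedding.isOpen_range)⟩
  let Z : Over S := Over.mk (V.ι ≫ (U ⊗ T).hom)
  let i : Z ⟶ U ⊗ T := Over.homMk V.ι rfl
  have hio : IsOpenImmersion i.left := inferInstanceAs (IsOpenImmersion V.ι)
  have hQ := (isSheaf_iff_isSheaf_of_type _ _).1 (Q).property
  have hpts : ∀ (X : Over S) (v : X ⟶ U ⊗ T), (∃ w : X ⟶ Z, w ≫ i = v) ↔ C X v := by
    intro X v
    have hPB := (IsPullback.of_hasPullback v q).map (Over.forget S)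
    have hpX : CGrpSh29.fpqcCov (pullback.fst v q).left :=
      MorphismProperty.of_isPullback (P := CGrpSh29.fpqcCov) hPB.flip hq
    have hiff : C X v ↔ C _ (pullback.fst v q ≫ v) := by
      simp only [C, Category.assoc]
      refine ⟨fun h => ?_, fun h => ((Presieve.isSheafFor_iff_generate _).mpr
        (hQ _ (CGrpSh29.singleton_mem _ hpX))).isSeparatedFor.ext fun _ _ hk => ?_⟩
      · rw [← cls_map, h, ← Functor.map_comp_apply, ← op_comp]
      · cases hk
        rw [cls_map, h, ← Functor.map_comp_apply, ← op_comp]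
    rw [hiff, pullback.condition, hC]
    constructor
    · rintro ⟨w, rfl⟩
      have hrg : Set.range (pullback.snd (w ≫ i) q).left ⊆ Set.range z.left := by
        rintro _ ⟨c, rfl⟩
        rw [← hsat]
        show q.left ((pullback.snd (w ≫ i) q).left c) ∈ B
        rw [← Scheme.Hom.comp_apply, ← Over.comp_left, ← pullback.condition, Over.comp_left, Scheme.Hom.comp_apply,
          Over.comp_left, Scheme.Hom.comp_apply]
        exact (w.left ((pullback.fst (w ≫ i) q).left c)).2
      have hl : IsOpenImmersion.lift z.left (pullback.snd (w ≫ i) q).left hrg ≫ z.left =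
          (pullback.snd (w ≫ i) q).left := IsOpenImmersion.lift_fac _ _ _
      exact ⟨Over.homMk (IsOpenImmersion.lift z.left (pullback.snd (w ≫ i) q).left hrg) (by
        rw [← Over.w z, ← Category.assoc, hl]; exact Over.w _), Over.OverMorphism.ext hl⟩
    · rintro ⟨l, hl⟩
      have hrg : Set.range v.left ⊆ Set.range i.left := by
        rintro _ ⟨c, rfl⟩
        obtain ⟨c', rfl⟩ := (CGrpSh29.surjective_of_fpqcCov hpX).1 c
        refine ⟨⟨_, ?_⟩, rfl⟩
        show v.left ((pullback.fst v q).left c') ∈ B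
        rw [← Scheme.Hom.comp_apply, ← Over.comp_left, pullback.condition, ← hl, Over.comp_left, Over.comp_left,
          Scheme.Hom.comp_apply, Scheme.Hom.comp_apply]
        exact ⟨_, ⟨_, rfl⟩, rfl⟩
      have hw : IsOpenImmersion.lift i.left v.left hrg ≫ i.left = v.left := IsOpenImmersion.lift_fac _ _ _
      exact ⟨Over.homMk (IsOpenImmersion.lift i.left v.left hrg) (by
        show _ ≫ i.left ≫ (U ⊗ T).hom = _
        rw [← Category.assoc, hw]; exact Over.w v), Over.OverMorphism.ext hw⟩
  have : Mono i := Over.mono_of_mono_left _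
  obtain ⟨r', hr⟩ := (hpts _ (z ≫ q)).2 ((hC _ z).2 ⟨𝟙 _, Category.id_comp z⟩)
  have hlift : ∀ c : PullbackCone q i, ∃ l : c.pt ⟶ Z', l ≫ z = c.fst := fun c =>
    (hC _ _).1 (by rw [c.condition]; exact (hpts _ _).1 ⟨c.snd, rfl⟩)
  choose l hl using hlift
  have hpb : IsPullback z r' q i := IsPullback.of_isLimit' ⟨hr.symm⟩ (PullbackCone.IsLimit.mk _ l hl
    (fun c => by rw [← cancel_mono i, Category.assoc, hr, ← Category.assoc, hl, c.condition])
    (fun c m h1 _ => by rw [← cancel_mono z, h1, hl]))
  refine ⟨Z, i, hio, hpts, fun P _ hP hs => ?_⟩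
  have h1 : IsPullback r' (z ≫ snd U T') (i ≫ snd U T) p := hpb.flip.paste_vert hsq.flip
  have h2 : P (pullback.snd s a).left :=
    MorphismProperty.of_isPullback ((IsPullback.of_hasPullback s a).map (Over.forget S)) hs
  exact hP hp (h1.map (Over.forget S)) (show P (z ≫ snd U T').left by rw [hz2]; exact h2)

end Groth.Agent.GrpQ29
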